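import Groth.Agent.FibDegLib.Field
import Groth.Agent.EtLocLib.Finite

/-!
# The degree function of a flat, separated, locally quasi-finite morphism
-/

set_option autoImplicit false
set_option linter.style.haveILetI false
set_option backward.isDefEq.respectTransparency false
set_option backward.isDefEq.respectTransparency.types false

universe u

open CategoryTheory CategoryTheory.Limits AlgebraicGeometry TopologicalSpace IsLocalRing

namespace FibDegLib

variable {K : Type u} [Field K]

theorem gRank_eq_of_isIso {P A : Scheme.{u}} (π : P ⟶ Spec (CommRingCat.of K))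
    (π' : A ⟶ Spec (CommRingCat.of K)) (j : A ⟶ P) [IsIso j] (hj : j ≫ π = π') : gRank π' = gRank π :=
  le_antisymm (gRank_le π π' j hj (by rw [Set.range_eq_univ.2 j.surjective]; exact isClosed_univ))
    (gRank_le π' π (inv j) (by rw [← hj, IsIso.inv_hom_id_assoc])
      (by rw [Set.range_eq_univ.2 (inv j).surjective]; exact isClosed_univ))

variable {X S : Scheme.{u}} (f : X ⟶ S)

/-- The rank of the global functions of the fibre over a point. -/
noncomputable def rk (s : S) : Cardinal.{u} :=
  gRank (K := S.residueField s) (pullback.snd f (S.fromSpecResidueField s))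

variable [LocallyQuasiFinite f] [Flat f]

theorem finite_fiber {s : S} (h : (f ⁻¹' {s}).Finite) :
    Finite ↥(pullback f (S.fromSpecResidueField s)) := by
  haveI := h.to_subtype
  exact Finite.of_equiv _ (f.fiberHomeo s).toEquiv.symm

omit [Flat f] in
theorem finite_of_finite_fiber {s : S} (h : Finite ↥(pullback f (S.fromSpecResidueField s))) :
    (f ⁻¹' {s}).Finite := by
  haveI : Finite ↥(f.fiber s) := h
  rw [← f.range_fiberι s]
  exact Set.finite_range _

/-- A field valued point factors through its image. -/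
theorem exists_factor (g : Spec (CommRingCat.of K) ⟶ S) :
    ∃ φ : S.residueField (g (closedPoint K)) ⟶ CommRingCat.of K,
      Spec.map φ ≫ S.fromSpecResidueField _ = g :=
  ⟨S.descResidueField (Scheme.stalkClosedPointTo g),
    Scheme.descResidueField_stalkClosedPointTo_fromSpecResidueField K S g⟩

theorem gRank_snd_eq (g : Spec (CommRingCat.of K) ⟶ S) {s : S} (hs : g (closedPoint K) = s)
    (h : (f ⁻¹' {s}).Finite) : gRank (pullback.snd f g) = rk f s := by
  subst hs
  obtain ⟨φ, hφ⟩ := exists_factor g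
  let s := g (closedPoint K)
  let m : pullback f g ⟶ pullback f (S.fromSpecResidueField s) :=
    pullback.lift (pullback.fst f g) (pullback.snd f g ≫ Spec.map φ)
      (by rw [Category.assoc, hφ]; exact pullback.condition)
  have sq : IsPullback m (pullback.snd f g) (pullback.snd f (S.fromSpecResidueField s)) (Spec.map φ) :=
    IsPullback.of_right (by rw [pullback.lift_fst, hφ]; exact IsPullback.of_hasPullback f g)
      (pullback.lift_snd _ _ _) (IsPullback.of_hasPullback _ _)
  haveI : IsFinite (pullback.snd f (S.fromSpecResidueField s)) :=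
    isFinite_of_finite (K := S.residueField s) _ (finite_fiber f h)
  haveI : IsFinite (pullback.snd f g) := MorphismProperty.of_isPullback (P := @IsFinite) sq inferInstance
  rw [← natCast_finrank (pullback.snd f g) (closedPoint K), Scheme.Hom.finrank_of_isPullback m _ _ _ sq]
  exact natCast_finrank (K := S.residueField s) _ _

theorem le_gRank_snd_of_infinite (g : Spec (CommRingCat.of K) ⟶ S) {s : S} (hs : g (closedPoint K) = s)
    (h : ¬ (f ⁻¹' {s}).Finite) (d : ℕ) : (d : Cardinal.{u}) ≤ gRank (pullback.snd f g) := by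
  refine le_gRank_of_infinite _ ?_ d
  by_contra hfin
  haveI : Finite ↥(pullback f g) := not_infinite_iff_finite.1 hfin
  refine h ((Set.finite_range (pullback.fst f g)).subset fun x hx => ?_)
  obtain ⟨z, hz, -⟩ := Scheme.Pullback.exists_preimage_pullback (f := f) (g := g) x (closedPoint K)
    ((show f x = s from hx).trans hs.symm)
  exact ⟨z, hz⟩

theorem le_rk_of_infinite {s : S} (h : ¬ (f ⁻¹' {s}).Finite) (d : ℕ) : (d : Cardinal.{u}) ≤ rk f s := by
  have hs : S.fromSpecResidueField s (closedPoint (S.residueField s)) = s :=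
    Scheme.fromSpecResidueField_apply _ _
  exact le_gRank_snd_of_infinite (K := S.residueField s) f (S.fromSpecResidueField s) hs h d

theorem finite_of_rk_le {s : S} {n : ℕ} (h : rk f s ≤ n) : (f ⁻¹' {s}).Finite := by
  by_contra hf
  have := (le_rk_of_infinite f hf (n + 1)).trans h
  norm_cast at this
  omega

theorem le_gRank_snd_iff (g : Spec (CommRingCat.of K) ⟶ S) {s : S} (hs : g (closedPoint K) = s) (d : ℕ) :
    (d : Cardinal.{u}) ≤ gRank (pullback.snd f g) ↔ (d : Cardinal.{u}) ≤ rk f s := by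
  by_cases h : (f ⁻¹' {s}).Finite
  · rw [gRank_snd_eq f g hs h]
  · exact iff_of_true (le_gRank_snd_of_infinite f g hs h d) (le_rk_of_infinite f h d)

theorem exists_natCast_eq_rk {s : S} (h : (f ⁻¹' {s}).Finite) : ∃ n : ℕ, rk f s = n := by
  haveI : IsFinite (pullback.snd f (S.fromSpecResidueField s)) :=
    isFinite_of_finite (K := S.residueField s) _ (finite_fiber f h)
  exact ⟨_, (natCast_finrank (K := S.residueField s) _ (closedPoint _)).symm⟩

theorem natCast_finrank_eq_rk [IsFinite f] (s : S) : (f.finrank s : Cardinal.{u}) = rk f s := by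
  rw [rk, ← natCast_finrank (K := S.residueField s) (pullback.snd f (S.fromSpecResidueField s))
    (closedPoint (S.residueField s)), Scheme.Hom.finrank_pullback_snd]
  exact congrArg (fun y => ((f.finrank y : ℕ) : Cardinal.{u})) (Scheme.fromSpecResidueField_apply _ _).symm

theorem rk_snd {T : Scheme.{u}} (g : T ⟶ S) (t : T) (h : (f ⁻¹' {g t}).Finite) :
    rk (pullback.snd f g) t = rk f (g t) := by
  have h₁ : (T.fromSpecResidueField t ≫ g) (closedPoint (T.residueField t)) = g t := by
    rw [Scheme.Hom.comp_apply, Scheme.fromSpecResidueField_apply]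
  rw [← gRank_snd_eq (K := T.residueField t) f (T.fromSpecResidueField t ≫ g) h₁ h]
  exact gRank_eq_of_isIso (K := T.residueField t) _ _
    (pullbackLeftPullbackSndIso f g (T.fromSpecResidueField t)).hom
    (pullbackLeftPullbackSndIso_hom_snd _ _ _)

theorem finite_preimage_snd {T : Scheme.{u}} (g : T ⟶ S) (t : T) (h : (f ⁻¹' {g t}).Finite) :
    (pullback.snd f g ⁻¹' {t}).Finite := by
  refine finite_of_rk_le (pullback.snd f g) (n := (exists_natCast_eq_rk f h).choose) (le_of_eq ?_)
  rw [rk_snd f g t h]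
  exact (exists_natCast_eq_rk f h).choose_spec

variable (W : X.Opens)

theorem finite_preimage_opens {s : S} (h : (f ⁻¹' {s}).Finite) : ((W.ι ≫ f) ⁻¹' {s}).Finite :=
  (h.preimage W.ι.isOpenEmbedding.injective.injOn).subset fun _ hx => hx

/-- The canonical map between fibres. -/
noncomputable def fibreIncl (s : S) :
    pullback (W.ι ≫ f) (S.fromSpecResidueField s) ⟶ pullback f (S.fromSpecResidueField s) :=
  pullback.map _ _ _ _ W.ι (𝟙 _) (𝟙 _) (by simp) (by simp)

omit [LocallyQuasiFinite f] [Flat f] in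
theorem isPullback_fibreIncl (s : S) : IsPullback (pullback.fst (W.ι ≫ f) (S.fromSpecResidueField s))
    (fibreIncl f W s) W.ι (pullback.fst f (S.fromSpecResidueField s)) := by
  refine IsPullback.of_bot ?_ (by simp [fibreIncl]) (IsPullback.of_hasPullback f (S.fromSpecResidueField s))
  simpa [fibreIncl] using IsPullback.of_hasPullback (W.ι ≫ f) (S.fromSpecResidueField s)

omit [Flat f] in
theorem rk_opens_le (s : S) : rk (W.ι ≫ f) s ≤ rk f s := by
  haveI : IsOpenImmersion (fibreIncl f W s) :=
    MorphismProperty.of_isPullback (P := @IsOpenImmersion) (isPullback_fibreIncl f W s) inferInstance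
  exact gRank_le (K := S.residueField s) _ _ (fibreIncl f W s) (by simp [fibreIncl])
    (isClosed_range (K := S.residueField s) (pullback.snd f (S.fromSpecResidueField s)) _)

theorem forall_mem_of_rk_le {s : S} (h : (f ⁻¹' {s}).Finite) (hle : rk f s ≤ rk (W.ι ≫ f) s) (x : X)
    (hx : f x = s) : x ∈ W := by
  haveI : IsOpenImmersion (fibreIncl f W s) :=
    MorphismProperty.of_isPullback (P := @IsOpenImmersion) (isPullback_fibreIncl f W s) inferInstance
  haveI : IsFinite (pullback.snd f (S.fromSpecResidueField s)) :=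
    isFinite_of_finite (K := S.residueField s) _ (finite_fiber f h)
  haveI : IsFinite (pullback.snd (W.ι ≫ f) (S.fromSpecResidueField s)) :=
    isFinite_of_finite (K := S.residueField s) _ (finite_fiber _ (finite_preimage_opens f W h))
  haveI := isIso_of_gRank_eq (K := S.residueField s) (pullback.snd f (S.fromSpecResidueField s))
    (pullback.snd (W.ι ≫ f) (S.fromSpecResidueField s)) (fibreIncl f W s) (by simp [fibreIncl]) hle
  obtain ⟨z, hz, -⟩ := Scheme.Pullback.exists_preimage_pullback (f := f) (g := S.fromSpecResidueField s) x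
    (closedPoint (S.residueField s)) (by rw [Scheme.fromSpecResidueField_apply]; exact hx)
  obtain ⟨w, rfl⟩ := (fibreIncl f W s).surjective z
  rw [← hz, ← Scheme.Hom.comp_apply, ← (isPullback_fibreIncl f W s).w, Scheme.Hom.comp_apply]
  exact (pullback.fst (W.ι ≫ f) (S.fromSpecResidueField s) w).2

omit [Flat f] in
theorem rk_opens_eq {s : S} (hW : ∀ x, f x = s → x ∈ W) : rk (W.ι ≫ f) s = rk f s := by
  haveI : IsOpenImmersion (fibreIncl f W s) :=
    MorphismProperty.of_isPullback (P := @IsOpenImmersion) (isPullback_fibreIncl f W s) inferInstance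
  haveI : Surjective (fibreIncl f W s) := ⟨fun z => by
    have hz : f (pullback.fst f (S.fromSpecResidueField s) z) = s := by
      rw [← Scheme.Hom.comp_apply, pullback.condition, Scheme.Hom.comp_apply,
        Scheme.fromSpecResidueField_apply]
    obtain ⟨w, -, hw⟩ := Scheme.exists_preimage_of_isPullback (isPullback_fibreIncl f W s)
      ⟨_, hW _ hz⟩ z rfl
    exact ⟨w, hw⟩⟩
  haveI : IsIso (fibreIncl f W s) := (isIso_iff_isOpenImmersion_and_epi_base _).2
    ⟨inferInstance, (TopCat.epi_iff_surjective _).2 (fibreIncl f W s).surjective⟩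
  exact gRank_eq_of_isIso (K := S.residueField s) _ _ (fibreIncl f W s) (by simp [fibreIncl])

variable [IsSeparated f] [LocallyOfFinitePresentation f]

/-- Étale-locally a finite open carries the whole degree. -/
theorem exists_split_degree {s : S} (h : (f ⁻¹' {s}).Finite) :
    ∃ (U : Scheme.{u}) (g : U ⟶ S) (_ : Etale g) (u : U) (N : U.Opens) (V : (pullback f g).Opens),
      g u = s ∧ u ∈ N ∧ IsClosed (V : Set ↥(pullback f g)) ∧ IsFinite (V.ι ≫ pullback.snd f g) ∧
      (∀ p, pullback.snd f g p = u → p ∈ V) ∧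
      ∀ q ∈ N, rk f s ≤ rk f (g q) ∧
        (rk f (g q) ≤ rk f s → ∀ p, pullback.snd f g p = q → p ∈ V) ∧
        ((∀ p, pullback.snd f g p = q → p ∈ V) → rk f (g q) = rk f s) := by
  obtain ⟨U, g, hg, σ, hσ, V, hVc, hVf, hV⟩ := EtLocLib.exists_elementary_finite f s (f ⁻¹' {s}) h
    (fun _ hx => hx) (fun x _ => f.quasiFiniteAt x)
  obtain ⟨hu, -⟩ := EtLocLib.bijective_of_section g σ hσ
  let u := σ.base (closedPoint (S.residueField s))
  let π := pullback.snd f g
  haveI : LocallyQuasiFinite π := MorphismProperty.pullback_snd _ _ ‹_›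
  haveI : Flat π := MorphismProperty.pullback_snd _ _ ‹_›
  haveI : LocallyOfFinitePresentation π := MorphismProperty.pullback_snd _ _ ‹_›
  have hVu : ∀ p, π p = u → p ∈ V := fun p hp => hV p hp (by
    show f (pullback.fst f g p) = s
    rw [← Scheme.Hom.comp_apply, pullback.condition, Scheme.Hom.comp_apply]
    exact (congrArg g hp).trans hu)
  haveI := hVf
  let r := (V.ι ≫ π).finrank
  have hlc : IsLocallyConstant r := (V.ι ≫ π).isLocallyConstant_finrank
  have hcnt : rk f s = (r u : Cardinal.{u}) := by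
    show rk f s = (((V.ι ≫ π).finrank u : ℕ) : Cardinal.{u})
    rw [natCast_finrank_eq_rk, rk_opens_eq π V hVu, rk_snd f g u (by rwa [show g u = s from hu]),
      show g u = s from hu]
  refine ⟨U, g, hg, u, ⟨r ⁻¹' {r u}, hlc.isOpen_fiber _⟩, V, hu, rfl, hVc, hVf, hVu, fun q hq => ?_⟩
  have hq' : rk (V.ι ≫ π) q = rk f s := by
    rw [← natCast_finrank_eq_rk, show (V.ι ≫ π).finrank q = r u from hq, hcnt]
  by_cases hfin : (f ⁻¹' {g q}).Finite
  · have hle := rk_opens_le π V q
    rw [hq', rk_snd f g q hfin] at hle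
    refine ⟨hle, fun hle' => forall_mem_of_rk_le π V (finite_preimage_snd f g q hfin) ?_,
      fun hall => ?_⟩
    · rw [hq', rk_snd f g q hfin]; exact hle'
    · rw [← rk_snd f g q hfin, ← rk_opens_eq π V hall, hq']
  · refine ⟨hcnt.le.trans (le_rk_of_infinite f hfin _), fun hle' => ?_, fun hall => ?_⟩
    · exact absurd (finite_of_rk_le f (hle'.trans hcnt.le)) hfin
    · refine absurd ?_ hfin
      have hf' : (π ⁻¹' {q}).Finite := by
        refine finite_of_rk_le π (n := r u) (le_of_eq ?_)
        rw [← rk_opens_eq π V hall, hq', hcnt]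
      refine (hf'.image (pullback.fst f g)).subset fun x hx => ?_
      obtain ⟨z, hz₁, hz₂⟩ := Scheme.Pullback.exists_preimage_pullback (f := f) (g := g) x q hx
      exact ⟨z, hz₂, hz₁⟩

/-- The degree is lower semicontinuous where the fibre is finite. -/
theorem exists_nhd_rk_le {s : S} (h : (f ⁻¹' {s}).Finite) :
    ∃ N : S.Opens, s ∈ N ∧ ∀ s' ∈ N, rk f s ≤ rk f s' := by
  obtain ⟨U, g, hg, u, N, V, hu, huN, -, -, -, hN⟩ := exists_split_degree f h
  refine ⟨⟨g '' N, g.isOpenMap _ N.2⟩, ⟨u, huN, hu⟩, ?_⟩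
  rintro _ ⟨q, hq, rfl⟩
  exact (hN q hq).1

theorem isOpen_setOf_le_rk (d : ℕ) : IsOpen {s : S | (d : Cardinal.{u}) ≤ rk f s} := by
  rw [isOpen_iff_forall_mem_open]
  intro s hs
  by_cases hfin : (f ⁻¹' {s}).Finite
  · obtain ⟨N, hsN, hN⟩ := exists_nhd_rk_le f hfin
    exact ⟨N, fun s' hs' => (show (d : Cardinal.{u}) ≤ rk f s from hs).trans (hN s' hs'), N.2, hsN⟩
  obtain ⟨F, hFs, hF⟩ := Set.Infinite.exists_subset_card_eq (Set.not_finite.1 fun h => hfin h) d |>
    fun ⟨F, h1, h2⟩ => (⟨F, h1, h2⟩ : ∃ F : Finset X, (F : Set X) ⊆ f ⁻¹' {s} ∧ F.card = d)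
  obtain ⟨S₀, hS₀, hsS₀, -⟩ := exists_isAffineOpen_mem_and_subset (X := S) (x := s) (U := ⊤) trivial
  choose O hO hOx hOle using fun x : F => exists_isAffineOpen_mem_and_subset (X := X) (x := x.1)
    (U := f ⁻¹ᵁ S₀) (show f x.1 ∈ S₀ from (show f x.1 = s from hFs x.2) ▸ hsS₀)
  let W : X.Opens := ⨆ x, O x
  have hWc : IsCompact (W : Set X) := by
    simp only [W, Opens.coe_iSup]
    exact isCompact_iUnion fun x => (hO x).isCompact
  have hWle : W ≤ f ⁻¹ᵁ S₀ := iSup_le fun x => hOle x
  haveI : CompactSpace W.toScheme := isCompact_iff_compactSpace.1 hWc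
  haveI : IsAffine S₀.toScheme := hS₀
  let h' : W.toScheme ⟶ S₀.toScheme := f.resLE S₀ W hWle
  haveI : LocallyQuasiFinite h' := by
    haveI : LocallyQuasiFinite (h' ≫ S₀.ι) := by rw [Scheme.Hom.resLE_comp_ι]; infer_instance
    exact LocallyQuasiFinite.of_comp h' S₀.ι
  haveI : QuasiCompact h' := (quasiCompact_iff_compactSpace h').2 inferInstance
  have hWfin : ((W.ι ≫ f) ⁻¹' {s}).Finite := by
    refine (h'.finite_preimage_singleton ⟨s, hsS₀⟩).subset fun x hx => ?_
    apply Subtype.ext
    show S₀.ι (h' x) = s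
    rw [← Scheme.Hom.comp_apply, Scheme.Hom.resLE_comp_ι]
    exact hx
  have hcard : (d : Cardinal.{u}) ≤ rk (W.ι ≫ f) s := by
    haveI : IsFinite (pullback.snd (W.ι ≫ f) (S.fromSpecResidueField s)) :=
      isFinite_of_finite (K := S.residueField s) _ (finite_fiber _ hWfin)
    refine le_trans ?_ (card_le_gRank_of_finite (K := S.residueField s) _)
    haveI := hWfin.to_subtype
    show (d : Cardinal.{u}) ≤ (Nat.card ↥((W.ι ≫ f).fiber s) : Cardinal.{u})
    rw [Nat.card_congr ((W.ι ≫ f).fiberHomeo s).toEquiv, Nat.cast_le, ← hF, ← Nat.card_eq_finsetCard]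
    exact Nat.card_le_card_of_injective
      (fun x : F => (⟨⟨x.1, Opens.mem_iSup.2 ⟨x, hOx x⟩⟩, hFs x.2⟩ : ↥((W.ι ≫ f) ⁻¹' {s})))
      fun a b e => Subtype.ext (congrArg (fun z : ↥((W.ι ≫ f) ⁻¹' {s}) => (z.1.1 : X)) e)
  obtain ⟨N, hsN, hN⟩ := exists_nhd_rk_le (W.ι ≫ f) hWfin
  exact ⟨N, fun s' hs' => hcard.trans ((hN s' hs').trans (rk_opens_le f W s')), N.2, hsN⟩

end FibDegLib
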