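import Mathlib.AlgebraicGeometry.Morphisms.FlatRank
import Mathlib.AlgebraicGeometry.Morphisms.QuasiFinite
import Mathlib.AlgebraicGeometry.Morphisms.Finite
import Mathlib.AlgebraicGeometry.Morphisms.Flat

/-!
# Rank of the global functions of a locally quasi-finite scheme over a field
-/

set_option autoImplicit false
set_option linter.style.haveILetI false
set_option backward.isDefEq.respectTransparency false
set_option backward.isDefEq.respectTransparency.types false

universe u

open CategoryTheory CategoryTheory.Limits AlgebraicGeometry TopologicalSpace Opposite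

namespace FibDegLib

variable {K : Type u} [Field K]

/-- The dimension of the space of global functions of a scheme over a field. -/
noncomputable def gRank {P : Scheme.{u}} (π : P ⟶ Spec (CommRingCat.of K)) : Cardinal.{u} :=
  letI := ((Scheme.ΓSpecIso (CommRingCat.of K)).inv ≫ π.appTop).hom.toAlgebra
  Module.rank K (Γ(P, ⊤) : Type u)

variable {P A : Scheme.{u}} (π : P ⟶ Spec (CommRingCat.of K))

theorem natCast_finrank [IsFinite π] [Flat π] (x : ↥(Spec (CommRingCat.of K))) :
    (π.finrank x : Cardinal.{u}) = gRank π := by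
  let φ := (Scheme.ΓSpecIso (CommRingCat.of K)).inv ≫ π.appTop
  haveI : IsAffine P := isAffine_of_isAffineHom π
  have hπ : P.isoSpec.hom ≫ Spec.map φ = π := by
    rw [Spec.map_comp, ← Category.assoc, Scheme.isoSpec_hom_naturality, Category.assoc,
      Scheme.isoSpec_Spec_hom, ← Spec.map_comp]
    simp
  haveI : IsFinite (Spec.map φ) := by
    rw [← MorphismProperty.cancel_left_of_respectsIso @IsFinite P.isoSpec.hom, hπ]; infer_instance
  haveI : Flat (Spec.map φ) := by
    rw [← MorphismProperty.cancel_left_of_respectsIso @Flat P.isoSpec.hom, hπ]; infer_instance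
  have hf : φ.hom.Finite := (IsFinite.SpecMap_iff φ).1 inferInstance
  have hfl : φ.hom.Flat := Flat.SpecMap_iff.1 inferInstance
  letI := φ.hom.toAlgebra
  haveI : Module.Finite K (Γ(P, ⊤) : Type u) := hf
  haveI : Module.Flat K (Γ(P, ⊤) : Type u) := hfl
  have h := Scheme.Hom.finrank_SpecMap_algebraMap K (Γ(P, ⊤) : Type u) x
  rw [show CommRingCat.ofHom (algebraMap K (Γ(P, ⊤) : Type u)) = φ from rfl] at h
  conv_lhs => rw [← hπ]
  rw [Scheme.Hom.finrank_comp_left_of_isIso, h]
  show ((Module.rankAtStalk (Γ(P, ⊤) : Type u) x : ℕ) : Cardinal.{u}) = Module.rank K (Γ(P, ⊤) : Type u)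
  rw [Module.rankAtStalk_eq_finrank_of_free, Pi.natCast_apply, ← Module.finrank_eq_rank]
  simp

theorem discreteTopology [LocallyQuasiFinite π] : DiscreteTopology P := by
  rw [← isDiscrete_univ_iff]
  have h := π.isDiscrete_preimage_singleton (IsLocalRing.closedPoint K)
  rwa [show π ⁻¹' {IsLocalRing.closedPoint K} = Set.univ from
    Set.eq_univ_of_forall fun z => Subsingleton.elim (π z) _] at h

theorem isFinite_of_finite [LocallyQuasiFinite π] (h : Finite P) : IsFinite π := by
  haveI : CompactSpace P := Finite.compactSpace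
  haveI : QuasiCompact π := (quasiCompact_iff_compactSpace π).2 ‹_›
  exact IsFinite.of_locallyQuasiFinite π

/-- An open immersion with closed image is surjective on global functions. -/
theorem surjective_appTop (j : A ⟶ P) [IsOpenImmersion j] (h : IsClosed (Set.range j)) :
    Function.Surjective j.appTop := by
  let U : P.Opens := j.opensRange
  let U' : P.Opens := ⟨(U : Set P)ᶜ, h.isOpen_compl⟩
  have hres : Function.Surjective (P.presheaf.map (homOfLE (le_top (a := U))).op) := by
    intro s
    let W : Bool → P.Opens := fun b => if b then U else U'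
    let sf : ∀ b, ToType (P.sheaf.1.obj (op (W b))) := fun b =>
      match b with
      | true => s
      | false => 0
    have hsub : ∀ V : P.Opens, V = ⊥ → Subsingleton (ToType (P.sheaf.1.obj (op V))) := by
      rintro _ rfl
      exact inferInstanceAs (Subsingleton Γ(P, ⊥))
    obtain ⟨t, ht, -⟩ := P.sheaf.existsUnique_gluing' W ⊤ (fun b => homOfLE le_top) (fun x _ => by
        by_cases hx : x ∈ U
        · exact Opens.mem_iSup.2 ⟨true, hx⟩
        · exact Opens.mem_iSup.2 ⟨false, hx⟩) sf (by
        intro i j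
        by_cases hij : i = j
        · subst hij; rfl
        · haveI := hsub (W i ⊓ W j) (by
            refine eq_bot_iff.2 fun x ⟨hi, hj⟩ => ?_
            cases i <;> cases j <;> first | exact absurd rfl hij | exact (hi hj).elim | exact (hj hi).elim)
          exact Subsingleton.elim _ _)
    exact ⟨t, ht true⟩
  haveI : IsIso (j.app U) := j.isIso_app U le_rfl
  have heq : j.appTop = P.presheaf.map (homOfLE (le_top (a := U))).op ≫ j.app U ≫
      A.presheaf.map (eqToHom (show (⊤ : A.Opens) = j ⁻¹ᵁ U from
        (show j ⁻¹ᵁ U = (⊤ : A.Opens) from Opens.ext (Set.eq_univ_of_forall fun a => (⟨a, rfl⟩ : j a ∈ U))).symm)).op := by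
    rw [← Category.assoc, Scheme.Hom.naturality, Category.assoc, ← Functor.map_comp]
    simp
  rw [heq]
  simp only [CommRingCat.hom_comp, RingHom.coe_comp]
  exact (ConcreteCategory.bijective_of_isIso _).surjective.comp
    ((ConcreteCategory.bijective_of_isIso _).surjective.comp hres)

theorem gRank_le (π' : A ⟶ Spec (CommRingCat.of K)) (j : A ⟶ P) [IsOpenImmersion j]
    (hj : j ≫ π = π') (h : IsClosed (Set.range j)) : gRank π' ≤ gRank π := by
  subst hj
  letI a₁ := ((Scheme.ΓSpecIso (CommRingCat.of K)).inv ≫ π.appTop).hom.toAlgebra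
  letI a₂ := ((Scheme.ΓSpecIso (CommRingCat.of K)).inv ≫ (j ≫ π).appTop).hom.toAlgebra
  let l : Γ(P, ⊤) →ₐ[K] Γ(A, ⊤) := ⟨j.appTop.hom, fun r => by
    show j.appTop (((Scheme.ΓSpecIso (CommRingCat.of K)).inv ≫ π.appTop) r) =
      ((Scheme.ΓSpecIso (CommRingCat.of K)).inv ≫ (j ≫ π).appTop) r
    simp [Scheme.Hom.comp_appTop]⟩
  exact LinearMap.rank_le_of_surjective l.toLinearMap (surjective_appTop j h)

theorem isClosed_range [LocallyQuasiFinite π] (j : A ⟶ P) : IsClosed (Set.range j) := by
  haveI := discreteTopology π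
  exact isClosed_discrete _

/-- Equality of ranks forces an open subscheme to be everything. -/
theorem isIso_of_gRank_eq [IsFinite π] [Flat π] (π' : A ⟶ Spec (CommRingCat.of K)) [IsFinite π']
    [Flat π'] (j : A ⟶ P) [IsOpenImmersion j] (hj : j ≫ π = π') (h : gRank π ≤ gRank π') :
    IsIso j := by
  subst hj
  have hc : IsClosed (Set.range j) := isClosed_range π j
  haveI : IsAffine P := isAffine_of_isAffineHom π
  haveI : IsAffine A := isAffine_of_isAffineHom (j ≫ π)
  letI a₁ := ((Scheme.ΓSpecIso (CommRingCat.of K)).inv ≫ π.appTop).hom.toAlgebra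
  letI a₂ := ((Scheme.ΓSpecIso (CommRingCat.of K)).inv ≫ (j ≫ π).appTop).hom.toAlgebra
  let l : Γ(P, ⊤) →ₐ[K] Γ(A, ⊤) := ⟨j.appTop.hom, fun r => by
    show j.appTop (((Scheme.ΓSpecIso (CommRingCat.of K)).inv ≫ π.appTop) r) =
      ((Scheme.ΓSpecIso (CommRingCat.of K)).inv ≫ (j ≫ π).appTop) r
    simp [Scheme.Hom.comp_appTop]⟩
  have hl : Function.Surjective l.toLinearMap := surjective_appTop j hc
  haveI : Module.Finite K (Γ(P, ⊤) : Type u) := Module.rank_lt_aleph0_iff.1
    (show Module.rank K (Γ(P, ⊤) : Type u) < Cardinal.aleph0 by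
      rw [show Module.rank K (Γ(P, ⊤) : Type u) = gRank π from rfl,
        ← natCast_finrank π (IsLocalRing.closedPoint K)]
      exact Cardinal.nat_lt_aleph0 _)
  have hinj : Function.Injective l.toLinearMap := by
    rw [← LinearMap.ker_eq_bot]
    apply Submodule.finrank_eq_zero.1
    have h₁ := l.toLinearMap.finrank_range_add_finrank_ker
    haveI : Module.Finite K (Γ(A, ⊤) : Type u) := Module.Finite.of_surjective _ hl
    have h₂ : Module.finrank K (Γ(P, ⊤) : Type u) ≤ Module.finrank K (Γ(A, ⊤) : Type u) := by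
      have h' : Module.rank K (Γ(P, ⊤) : Type u) ≤ Module.rank K (Γ(A, ⊤) : Type u) := h
      rw [← Module.finrank_eq_rank, ← Module.finrank_eq_rank] at h'
      exact_mod_cast h'
    rw [LinearMap.range_eq_top.2 hl, finrank_top] at h₁
    omega
  haveI : IsIso j.appTop := (ConcreteCategory.isIso_iff_bijective _).2 ⟨hinj, hl⟩
  rw [show j = A.isoSpec.hom ≫ Spec.map j.appTop ≫ P.isoSpec.inv by
    rw [← Category.assoc, Scheme.isoSpec_hom_naturality, Category.assoc, Iso.hom_inv_id, Category.comp_id]]
  infer_instance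

variable [Flat π] [LocallyQuasiFinite π]

theorem card_le_gRank_of_finite : ∀ {Q : Scheme.{u}} (ρ : Q ⟶ Spec (CommRingCat.of K)) [IsFinite ρ] [Flat ρ],
    (Nat.card Q : Cardinal.{u}) ≤ gRank ρ := by
  intro Q ρ _ _
  induction h : Nat.card Q using Nat.strong_induction_on generalizing Q with
  | _ n ih =>
    subst h
    haveI : Finite Q := by
      have h := ρ.finite_preimage_singleton (IsLocalRing.closedPoint K)
      rw [show ρ ⁻¹' {IsLocalRing.closedPoint K} = Set.univ from
        Set.eq_univ_of_forall fun z => Subsingleton.elim (ρ z) _] at h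
      exact Set.finite_univ_iff.1 h
    rcases isEmpty_or_nonempty Q with he | ⟨⟨q⟩⟩
    · simp
    haveI := discreteTopology ρ
    let U : Q.Opens := ⟨{q}ᶜ, isOpen_discrete _⟩
    haveI : Finite U.toScheme := inferInstanceAs (Finite {x : Q // x ∈ U})
    haveI : IsFinite (U.ι ≫ ρ) := isFinite_of_finite _ inferInstance
    have hlt : Nat.card U.toScheme < Nat.card Q :=
      Finite.card_subtype_lt (p := fun x => x ∈ U) (x := q) (fun h => h rfl)
    have h₁ := ih _ hlt (U.ι ≫ ρ) rfl
    have hle := gRank_le ρ (U.ι ≫ ρ) U.ι rfl (isClosed_discrete _)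
    rw [← natCast_finrank ρ (IsLocalRing.closedPoint K)] at hle ⊢
    rw [← natCast_finrank (U.ι ≫ ρ) (IsLocalRing.closedPoint K)] at hle h₁
    have hne : (U.ι ≫ ρ).finrank (IsLocalRing.closedPoint K) ≠ ρ.finrank (IsLocalRing.closedPoint K) := by
      intro he
      haveI := isIso_of_gRank_eq ρ (U.ι ≫ ρ) U.ι rfl (by
        rw [← natCast_finrank ρ (IsLocalRing.closedPoint K),
          ← natCast_finrank (U.ι ≫ ρ) (IsLocalRing.closedPoint K), he])
      obtain ⟨a, ha⟩ := U.ι.surjective q
      exact (show U.ι a ∈ U from a.2) (show U.ι a ∈ ({q} : Set Q) from ha)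
    have hle' : (U.ι ≫ ρ).finrank (IsLocalRing.closedPoint K) ≤ ρ.finrank (IsLocalRing.closedPoint K) := by
      exact_mod_cast hle
    have h₁' : Nat.card U.toScheme ≤ (U.ι ≫ ρ).finrank (IsLocalRing.closedPoint K) := by exact_mod_cast h₁
    have hc : Nat.card Q ≤ Nat.card U.toScheme + 1 := by
      classical
      haveI := Fintype.ofFinite Q
      haveI := Fintype.ofFinite U.toScheme
      rw [Nat.card_eq_fintype_card, Nat.card_eq_fintype_card, show Fintype.card U.toScheme =
        Fintype.card {x // x ≠ q} from Fintype.card_congr (Equiv.refl _), Fintype.card_subtype_compl,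
        Fintype.card_subtype_eq]
      omega
    exact_mod_cast (show Nat.card Q ≤ ρ.finrank (IsLocalRing.closedPoint K) by omega)

/-- A bound on the rank of an infinite scheme. -/
theorem le_gRank_of_infinite (h : Infinite P) (d : ℕ) : (d : Cardinal.{u}) ≤ gRank π := by
  obtain ⟨F, hF⟩ := Infinite.exists_subset_card_eq P d
  haveI := discreteTopology π
  let U : P.Opens := ⟨F, isOpen_discrete _⟩
  haveI : Finite U.toScheme := inferInstanceAs (Finite {x // x ∈ F})
  haveI : IsFinite (U.ι ≫ π) := isFinite_of_finite _ inferInstance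
  refine le_trans ?_ ((card_le_gRank_of_finite (U.ι ≫ π)).trans (gRank_le π _ U.ι rfl (isClosed_discrete _)))
  rw [show Nat.card U.toScheme = F.card from Nat.card_eq_finsetCard F, hF]

end FibDegLib
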