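import Groth.Agent.FibDegLib.Basic
import Groth.Agent.WeightLib.Constr
import Groth.Agent.WeightLib.Split
import Groth.Prelude.Def_Mor2
import Mathlib.AlgebraicGeometry.ZariskisMainTheorem
import Mathlib.AlgebraicGeometry.Morphisms.FlatDescent
import Mathlib.AlgebraicGeometry.Morphisms.UniversallyOpen

/-!
# Strata of the degree function
-/

set_option autoImplicit false
set_option linter.style.haveILetI false
set_option backward.isDefEq.respectTransparency false
set_option backward.isDefEq.respectTransparency.types false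

universe u

open CategoryTheory CategoryTheory.Limits AlgebraicGeometry TopologicalSpace Topology IsLocalRing

namespace FibDegLib

theorem isCompact_of_isConstructible {T : Type*} [TopologicalSpace T] [CompactSpace T] [QuasiSober T]
    [PrespectralSpace T] [QuasiSeparatedSpace T] {s : Set T} (hs : IsConstructible s) : IsCompact s := by
  induction s, hs using BooleanSubalgebra.closure_sdiff_sup_induction with
  | isSublattice =>
    exact ⟨fun s hs t ht ↦ ⟨hs.1.union ht.1, hs.2.union ht.2⟩,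
      fun s hs t ht ↦ ⟨hs.1.inter ht.1, hs.2.inter_isOpen ht.2 ht.1⟩⟩
  | bot_mem => exact ⟨isOpen_empty, .empty⟩
  | top_mem => exact ⟨isOpen_univ, .univ⟩
  | sdiff U hU V hV =>
    rw [Set.sdiff_eq]
    exact hU.2.isCompact.inter_right hV.1.isClosed_compl
  | sup S hS T hT ihS ihT => exact ihS.union ihT

variable {X S : Scheme.{u}} (f : X ⟶ S) [LocallyQuasiFinite f] [Flat f] [IsSeparated f]
  [LocallyOfFinitePresentation f]

/-- Constant degree forces finiteness. -/
theorem isFinite_of_rk_eq (r : ℕ) (hr : ∀ s, rk f s = r) : IsFinite f := by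
  have hfin : ∀ s, (f ⁻¹' {s}).Finite := fun s => finite_of_rk_le f (hr s).le
  choose U g hg u N V hu huN hVc hVf _ hN using fun s => exists_split_degree f (hfin s)
  haveI := hg
  haveI : UniversallyClosed f := by
    let M : S → S.Opens := fun y => ⟨g y '' N y, (g y).isOpenMap _ (N y).isOpen⟩
    refine IsZariskiLocalAtTarget.of_iSup_eq_top M
      (TopologicalSpace.Opens.ext (Set.eq_univ_of_forall fun y ↦ ?_)) fun y ↦ ?_
    · exact TopologicalSpace.Opens.mem_iSup.mpr ⟨y, u y, huN y, hu y⟩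
    let k : (N y).toScheme ⟶ (M y).toScheme :=
      (g y).resLE (M y) (N y) fun q hq ↦ ⟨q, hq, rfl⟩
    haveI : Surjective k := ⟨fun ⟨_, q, hq, rfl⟩ ↦ ⟨⟨q, hq⟩, Subtype.ext (by simp [k])⟩⟩
    let π := pullback.snd f (g y)
    have hπN : IsPullback (π ⁻¹ᵁ N y).ι (π ∣_ N y) π (N y).ι :=
      (isPullback_morphismRestrict π (N y)).flip
    have hP' : IsPullback ((π ⁻¹ᵁ N y).ι ≫ pullback.fst f (g y)) (π ∣_ N y) f
        ((N y).ι ≫ g y) := hπN.paste_horiz (IsPullback.of_hasPullback _ _)
    obtain ⟨m, hm, hma⟩ := WeightLib.exists_isPullback_map (a' := (π ⁻¹ᵁ N y).ι ≫ pullback.fst f (g y))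
      (π' := π ∣_ N y) (g' := k ≫ (M y).ι) (isPullback_morphismRestrict f (M y)).flip
      (by
        have : k ≫ (M y).ι = (N y).ι ≫ g y := Scheme.Hom.resLE_comp_ι ..
        rw [this]
        exact hP') k rfl
    have hUC : UniversallyClosed (π ∣_ N y) := by
      haveI := hVf y
      haveI : IsFinite (((π ⁻¹ᵁ N y).ι ⁻¹ᵁ V y).ι ≫ π ∣_ N y) := WeightLib.isFinite_restrict hπN (V y)
      have hall : ∀ p : (π ⁻¹ᵁ N y).toScheme, p ∈ (π ⁻¹ᵁ N y).ι ⁻¹ᵁ V y := fun p =>
        (hN y (π p.1) p.2).2.1 (by rw [hr, hr]) p.1 rfl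
      haveI : IsIso ((π ⁻¹ᵁ N y).ι ⁻¹ᵁ V y).ι :=
        isIso_of_isOpenImmersion_of_opensRange_eq_top _
          (by rw [Scheme.Opens.opensRange_ι]; exact top_le_iff.1 fun p _ => hall p)
      haveI : IsFinite (π ∣_ N y) :=
        (MorphismProperty.cancel_left_of_respectsIso @IsFinite ((π ⁻¹ᵁ N y).ι ⁻¹ᵁ V y).ι _).1 ‹_›
      infer_instance
    exact MorphismProperty.of_isPullback_of_descendsAlong (P := @UniversallyClosed)
      (Q := @Surjective ⊓ @Flat ⊓ @LocallyOfFinitePresentation) hm.flip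
      ⟨⟨‹_›, inferInstance⟩, inferInstance⟩ hUC
  haveI : IsProper f := ⟨⟩
  exact IsFinite.of_isProper_of_locallyQuasiFinite f

theorem isFinLocFreeOfDeg_snd_iff (deg : S → ℕ) (hdeg : ∀ s, rk f s = deg s) {T : Scheme.{u}}
    (g : T ⟶ S) (r : ℕ) : Mor2.IsFinLocFreeOfDeg r (pullback.snd f g) ↔ ∀ t : T, deg (g t) = r := by
  haveI : LocallyQuasiFinite (pullback.snd f g) := MorphismProperty.pullback_snd _ _ ‹_›
  haveI : Flat (pullback.snd f g) := MorphismProperty.pullback_snd _ _ ‹_›
  haveI : LocallyOfFinitePresentation (pullback.snd f g) := MorphismProperty.pullback_snd _ _ ‹_›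
  have hfin : ∀ s, (f ⁻¹' {s}).Finite := fun s => finite_of_rk_le f (hdeg s).le
  have hrk : ∀ t, rk (pullback.snd f g) t = deg (g t) := fun t => by rw [rk_snd f g t (hfin _), hdeg]
  refine ⟨fun h t => ?_, fun h => ?_⟩
  · haveI : IsFinite (pullback.snd f g) := h.1.1
    have := (natCast_finrank_eq_rk (pullback.snd f g) t).trans (hrk t)
    rw [h.2 t] at this
    exact_mod_cast this.symm
  · haveI : IsFinite (pullback.snd f g) :=
      isFinite_of_rk_eq (pullback.snd f g) r fun t => by rw [hrk t, h t]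
    refine ⟨⟨‹_›, ‹_›, ‹_›⟩, fun t => ?_⟩
    have := (natCast_finrank_eq_rk (pullback.snd f g) t).trans (hrk t)
    rw [h t] at this
    exact_mod_cast this

theorem exists_constructible_rk_eq [IsAffine S] [QuasiCompact f] (s : S) :
    ∃ C : Set S, IsConstructible C ∧ s ∈ C ∧ ∀ s' ∈ C, rk f s' = rk f s := by
  obtain ⟨U, g, hg, u, N, V, hu, huN, hVc, hVf, hVu, hN⟩ :=
    exists_split_degree f (f.finite_preimage_singleton s)
  obtain ⟨A, hA, huA, hAN⟩ := exists_isAffineOpen_mem_and_subset (X := U) (x := u) (U := N) huN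
  let π := pullback.snd f g
  haveI : LocallyOfFinitePresentation π := MorphismProperty.pullback_snd _ _ ‹_›
  haveI : IsAffine A.toScheme := hA
  let Q := π ⁻¹ᵁ A
  have hP : IsCompact (Q : Set ↥(pullback f g)) := by
    haveI : QuasiCompact π := MorphismProperty.pullback_snd _ _ ‹_›
    exact π.isCompact_preimage hA.isCompact
  haveI : CompactSpace Q.toScheme := isCompact_iff_compactSpace.1 hP
  haveI : QuasiCompact (π ∣_ A) := (quasiCompact_iff_compactSpace _).2 inferInstance
  let W : Q.toScheme.Opens := ⟨(Q.ι ⁻¹' (V : Set ↥(pullback f g)))ᶜ, (hVc.preimage Q.ι.continuous).isOpen_compl⟩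
  have hW : IsCompact (W : Set Q.toScheme) := by
    exact (V.2.preimage Q.ι.continuous).isClosed_compl.isCompact
  haveI : QuasiSeparatedSpace Q.toScheme := quasiSeparatedSpace_of_quasiSeparated (π ∣_ A)
  let Z : Set A.toScheme := (π ∣_ A) '' (W : Set Q.toScheme)
  have hZ : IsConstructible Z :=
    Scheme.Hom.isConstructible_image _ (hW.isConstructible W.2)
  have hgA : IsConstructible ((A.ι ≫ g) '' Zᶜ) := by
    haveI : QuasiCompact (A.ι ≫ g) := (quasiCompact_iff_compactSpace _).2 inferInstance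
    exact Scheme.Hom.isConstructible_image _ hZ.compl
  refine ⟨_, hgA, ⟨⟨u, huA⟩, ?_, ?_⟩, ?_⟩
  · rintro ⟨p, hp, hpu⟩
    refine hp (hVu p.1 ?_)
    have := congrArg (fun a : A.toScheme => (a.1 : U)) hpu
    simpa [morphismRestrict_base] using this
  · rw [Scheme.Hom.comp_apply]; exact hu
  rintro _ ⟨a, ha, rfl⟩
  rw [Scheme.Hom.comp_apply]
  refine (hN a.1 (hAN a.2)).2.2 fun p hp => ?_
  by_contra hpV
  refine ha ⟨⟨p, show π p ∈ A from hp ▸ a.2⟩, hpV, Subtype.ext ?_⟩
  simpa [morphismRestrict_base] using hp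

theorem rk_morphismRestrict (A : S.Opens) (a : A.toScheme) (h : (f ⁻¹' {a.1}).Finite) :
    rk (f ∣_ A) a = rk f a.1 := by
  have h' : (f ⁻¹' {A.ι a}).Finite := h
  refine Eq.trans ?_ (rk_snd f A.ι a h')
  exact gRank_eq_of_isIso (K := A.toScheme.residueField a) _ _
    (pullback.map (f ∣_ A) (A.toScheme.fromSpecResidueField a) (pullback.snd f A.ι)
      (A.toScheme.fromSpecResidueField a) (isPullback_morphismRestrict f A).flip.isoPullback.hom (𝟙 _) (𝟙 _)
      (by simp) (by simp))
    (by simp)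

theorem isRetrocompact_setOf_rk_eq [QuasiCompact f] (r : ℕ) :
    IsRetrocompact {s : S | rk f s = r} := by
  intro U hUc hUo
  have key : ∀ A : S.Opens, IsAffineOpen A → IsCompact ({s : S | rk f s = r} ∩ (A : Set S)) := by
    intro A hA
    haveI : IsAffine A.toScheme := hA
    haveI : CompactSpace A.toScheme := isCompact_iff_compactSpace.1 hA.isCompact
    have := (WeightLib.finite_range_of_forall (fun a => rk (f ∣_ A) a) fun a =>
      exists_constructible_rk_eq (f ∣_ A) a).2 (r : Cardinal.{u})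
    have hc := (isCompact_of_isConstructible this).image A.ι.continuous
    convert hc using 1
    ext s
    refine ⟨fun ⟨hs, hsA⟩ => ⟨⟨s, hsA⟩, ?_, rfl⟩, ?_⟩
    · show rk (f ∣_ A) _ = r
      rw [rk_morphismRestrict f A ⟨s, hsA⟩ (f.finite_preimage_singleton _)]
      exact hs
    · rintro ⟨a, ha, rfl⟩
      refine ⟨?_, a.2⟩
      show rk f a.1 = r
      rw [← rk_morphismRestrict f A a (f.finite_preimage_singleton _)]
      exact ha
  obtain ⟨t, ht, hUeq⟩ := (isCompact_and_isOpen_iff_finite_and_eq_biUnion_affineOpens (X := S) (U := U)).1 ⟨hUc, hUo⟩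
  rw [show U = ⋃ i ∈ t, (i.1 : Set S) from hUeq, Set.inter_iUnion₂]
  exact ht.isCompact_biUnion fun i _ => key i.1 i.2

end FibDegLib
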