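import Groth.Agent.FibDegLib.Basic
import Groth.Agent.WeightLib.Weighting
import Groth.Agent.WeightLib.EtaleQF
import Mathlib.AlgebraicGeometry.Morphisms.FormallyUnramified
import Mathlib.AlgebraicGeometry.Morphisms.Etale
import Mathlib.RingTheory.RamificationInertia.Basic
import Mathlib.FieldTheory.PurelyInseparable.Tower

/-!
# The multiplicity weighting of a flat quasi-finite morphism
-/

set_option autoImplicit false
set_option linter.style.haveILetI false
set_option backward.isDefEq.respectTransparency false
set_option backward.isDefEq.respectTransparency.types false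

universe u

open CategoryTheory CategoryTheory.Limits AlgebraicGeometry IsLocalRing

namespace FibDegLib

section ring

variable {R S R' S' : Type u} [CommRing R] [CommRing S] [CommRing R'] [CommRing S'] [IsLocalRing R]
  [IsLocalRing S] [IsLocalRing R'] [IsLocalRing S']

/-- The length of the closed fibre of a map of local rings. -/
noncomputable def lenq (ψ : R →+* S) : ℕ :=
  (Module.length S (S ⧸ (maximalIdeal R).map ψ)).toNat

/-- The residue degree of a map of local rings. -/
noncomputable def resDeg (ψ : R →+* S) [IsLocalHom ψ] : ℕ :=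
  letI := (ResidueField.map ψ).toAlgebra
  Module.finrank (ResidueField R) (ResidueField S)

theorem length_quotient_congr (e : S ≃+* S') (I : Ideal S) (J : Ideal S') (h : J = I.map (e : S →+* S')) :
    Module.length S' (S' ⧸ J) = Module.length S (S ⧸ I) := by
  subst h
  letI : Algebra S S' := (e : S →+* S').toAlgebra
  rw [← Module.length_eq_of_surjective (R := S') (S := S) (M := S' ⧸ I.map (e : S →+* S')) e.surjective]
  exact (Ideal.quotientEquivAlg I _ (AlgEquiv.ofRingEquiv (f := e) fun _ => rfl) rfl).symm.toLinearEquiv.length_eq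

theorem lenq_congr (ψ : R →+* S) (ψ' : R' →+* S') (e₀ : R ≃+* R') (e : S ≃+* S')
    (h : (e : S →+* S').comp ψ = ψ'.comp (e₀ : R →+* R')) : lenq ψ' = lenq ψ := by
  have h₀ : maximalIdeal R' = (maximalIdeal R).map (e₀ : R →+* R') :=
    (map_maximalIdeal_of_surjective (e₀ : R →+* R') e₀.surjective).symm
  rw [lenq, lenq, length_quotient_congr e ((maximalIdeal R).map ψ) ((maximalIdeal R').map ψ') (by rw [h₀, Ideal.map_map, Ideal.map_map, h])]

theorem resDeg_congr (ψ : R →+* S) (ψ' : R' →+* S') [IsLocalHom ψ] [IsLocalHom ψ'] (e₀ : R ≃+* R')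
    (e : S ≃+* S') (h : (e : S →+* S').comp ψ = ψ'.comp (e₀ : R →+* R')) : resDeg ψ' = resDeg ψ := by
  letI := (ResidueField.map ψ).toAlgebra
  letI := (ResidueField.map ψ').toAlgebra
  refine (Algebra.finrank_eq_of_equiv_equiv (ResidueField.mapEquiv e₀) (ResidueField.mapEquiv e) ?_).symm
  ext r
  obtain ⟨r, rfl⟩ := IsLocalRing.residue_surjective r
  exact congrArg (residue S') (RingHom.congr_fun h r).symm

/-- Flat unramified extensions do not change the length of the closed fibre. -/
theorem lenq_eq_of_square {A A' B B' : Type u} [CommRing A] [CommRing A'] [CommRing B] [CommRing B']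
    [IsLocalRing A] [IsLocalRing A'] [IsLocalRing B] [IsLocalRing B']
    (ψ : A →+* B) (ψ' : A' →+* B') (a : A →+* A') (b : B →+* B') [IsLocalHom b]
    (h : b.comp ψ = ψ'.comp a) (ha : (maximalIdeal A).map a = maximalIdeal A')
    (hb : (maximalIdeal B).map b = maximalIdeal B') (hflat : b.Flat) : lenq ψ' = lenq ψ := by
  algebraize [b]
  let I := (maximalIdeal A).map ψ
  have hI : (maximalIdeal A').map ψ' = I.map (algebraMap B B') := by
    rw [← ha, Ideal.map_map, Ideal.map_map, ← h]; rfl
  haveI : IsLocalHom (algebraMap B B') := ‹IsLocalHom b›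
  rw [lenq, lenq, hI,
    (Algebra.TensorProduct.quotIdealMapEquivTensorQuot B' I).toLinearEquiv.length_eq,
    IsLocalRing.length_baseChange B B' (B ⧸ I)]
  have h1 : Module.length B' (B' ⧸ (maximalIdeal B).map (algebraMap B B')) = 1 := by
    rw [show (maximalIdeal B).map (algebraMap B B') = maximalIdeal B' from hb, Module.length_eq_one_iff,
      isSimpleModule_iff_isCoatom, ← Ideal.isMaximal_def]
    exact maximalIdeal.isMaximal B'
  rw [h1, mul_one]

end ring

variable {X Y : Scheme.{u}} (f : X ⟶ Y)

/-- The inseparable degree of the residue extension. -/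
noncomputable def insDeg (x : X) : ℕ :=
  letI := (f.residueFieldMap x).hom.toAlgebra
  Field.finInsepDegree (Y.residueField (f x)) (X.residueField x)

/-- Multiplicity of a point in its fibre. -/
noncomputable def wt (x : X) : ℤ := (lenq (f.stalkMap x).hom : ℤ) * (insDeg f x : ℤ)

theorem map_maximalIdeal_of_etale [Etale f] (x : X) :
    (maximalIdeal (Y.presheaf.stalk (f x))).map (f.stalkMap x).hom = maximalIdeal (X.presheaf.stalk x) := by
  algebraize [(f.stalkMap x).hom]
  haveI : IsLocalHom (algebraMap (Y.presheaf.stalk (f x)) (X.presheaf.stalk x)) :=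
    inferInstanceAs <| IsLocalHom (f.stalkMap x).hom
  haveI : Algebra.EssFiniteType (Y.presheaf.stalk (f x)) (X.presheaf.stalk x) := by
    rw [← RingHom.essFiniteType_algebraMap, RingHom.algebraMap_toAlgebra]
    exact LocallyOfFiniteType.stalkMap f x
  haveI : Algebra.FormallyUnramified (Y.presheaf.stalk (f x)) (X.presheaf.stalk x) := by
    rw [← RingHom.formallyUnramified_algebraMap, RingHom.algebraMap_toAlgebra]
    exact FormallyUnramified.stalkMap f x
  exact Algebra.FormallyUnramified.map_maximalIdeal

theorem insDeg_etale [Etale f] (x : X) : insDeg f x = 1 := by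
  letI := (f.residueFieldMap x).hom.toAlgebra
  haveI : Algebra.IsSeparable (Y.residueField (f x)) (X.residueField x) := inferInstance
  exact (isSeparable_iff_finInsepDegree_eq_one _ _).1 inferInstance

theorem insDeg_comp {Z : Scheme.{u}} (g : Y ⟶ Z) [LocallyQuasiFinite f] (x : X) :
    insDeg (f ≫ g) x = insDeg g (f x) * insDeg f x ∨
      ¬ (letI := (g.residueFieldMap (f x)).hom.toAlgebra
        Algebra.IsAlgebraic (Z.residueField (g (f x))) (Y.residueField (f x))) := by
  by_cases halg : (letI := (g.residueFieldMap (f x)).hom.toAlgebra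
        Algebra.IsAlgebraic (Z.residueField (g (f x))) (Y.residueField (f x)))
  swap
  · exact Or.inr halg
  left
  letI := (g.residueFieldMap (f x)).hom.toAlgebra
  letI := (f.residueFieldMap x).hom.toAlgebra
  letI : Algebra (Z.residueField (g (f x))) (X.residueField x) := ((f ≫ g).residueFieldMap x).hom.toAlgebra
  haveI : IsScalarTower (Z.residueField (g (f x))) (Y.residueField (f x)) (X.residueField x) :=
    IsScalarTower.of_algebraMap_eq fun r => by
      show ((f ≫ g).residueFieldMap x) r = f.residueFieldMap x (g.residueFieldMap (f x) r)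
      rw [Scheme.residueFieldMap_comp]
      rfl
  haveI := halg
  exact (Field.finInsepDegree_mul_finInsepDegree_of_isAlgebraic (Z.residueField (g (f x)))
    (Y.residueField (f x)) (X.residueField x)).symm

theorem isAlgebraic_residueFieldMap [LocallyQuasiFinite f] (x : X) :
    letI := (f.residueFieldMap x).hom.toAlgebra
    Algebra.IsAlgebraic (Y.residueField (f x)) (X.residueField x) := by
  algebraize [(f.residueFieldMap x).hom]
  haveI : Module.Finite (Y.residueField (f x)) (X.residueField x) := WeightLib.finite_residueFieldMap f x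
  exact Algebra.IsAlgebraic.of_finite _ _

theorem insDeg_comp' {Z : Scheme.{u}} (g : Y ⟶ Z) [LocallyQuasiFinite f] [LocallyQuasiFinite g] (x : X) :
    insDeg (f ≫ g) x = insDeg g (f x) * insDeg f x :=
  (insDeg_comp f g x).resolve_right (not_not.2 (isAlgebraic_residueFieldMap g (f x)))

theorem wt_of_isPullback {P V : Scheme.{u}} {a : P ⟶ X} {π : P ⟶ V} {g : V ⟶ Y}
    (h : IsPullback a π f g) [Etale g] [LocallyQuasiFinite f] (p : P) : wt π p = wt f (a p) := by
  haveI : Etale a := MorphismProperty.of_isPullback (P := @Etale) h.flip inferInstance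
  haveI : LocallyQuasiFinite π := MorphismProperty.of_isPullback (P := @LocallyQuasiFinite) h inferInstance
  haveI : LocallyQuasiFinite g := WeightLib.locallyQuasiFinite_of_etale g
  haveI : LocallyQuasiFinite a := WeightLib.locallyQuasiFinite_of_etale a
  have hins : insDeg π p = insDeg f (a p) := by
    have h₁ := insDeg_comp' a f p
    have h₂ := insDeg_comp' π g p
    rw [insDeg_etale a p, mul_one] at h₁
    rw [insDeg_etale g, one_mul] at h₂
    rw [← h₁, ← h₂]
    congr 1
    exact h.w.symm
  let eY := Y.presheaf.stalkCongr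
    (.of_eq (show g (π p) = f (a p) by rw [← Scheme.Hom.comp_apply, ← h.w, Scheme.Hom.comp_apply]))
  let a' : Y.presheaf.stalk (f (a p)) ⟶ V.presheaf.stalk (π p) := eY.inv ≫ g.stalkMap (π p)
  have hlen : lenq (π.stalkMap p).hom = lenq (f.stalkMap (a p)).hom := by
    refine lenq_eq_of_square _ _ a'.hom (a.stalkMap p).hom ?_ ?_ (map_maximalIdeal_of_etale a p)
      (Flat.stalkMap a p)
    · rw [← CommRingCat.hom_comp, ← CommRingCat.hom_comp]
      congr 1
      simp only [a', Category.assoc]
      rw [← Scheme.Hom.stalkMap_comp, ← Scheme.Hom.stalkMap_comp,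
        Scheme.Hom.stalkMap_congr_hom _ _ h.w p]
      simp [eY]
    · rw [CommRingCat.hom_comp, ← Ideal.map_map]
      have : (maximalIdeal (Y.presheaf.stalk (f (a p)))).map eY.inv.hom =
          maximalIdeal (Y.presheaf.stalk (g (π p))) :=
        map_maximalIdeal_of_surjective eY.inv.hom eY.symm.commRingCatIsoToRingEquiv.surjective
      rw [this, map_maximalIdeal_of_etale g (π p)]
  rw [wt, wt, hins, hlen]

theorem wt_pos [LocallyQuasiFinite f] [Flat f] [LocallyOfFinitePresentation f] (x : X) : 0 < wt f x := by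
  refine mul_pos (Nat.cast_pos.2 ?_) (Nat.cast_pos.2 ?_)
  · letI := (f.stalkMap x).hom.toAlgebra
    haveI : IsLocalHom (algebraMap (Y.presheaf.stalk (f x)) (X.presheaf.stalk x)) :=
      inferInstanceAs <| IsLocalHom (f.stalkMap x).hom
    haveI : Algebra.QuasiFinite (Y.presheaf.stalk (f x)) (X.presheaf.stalk x) :=
      (RingHom.quasiFinite_algebraMap).1 (f.quasiFiniteAt x)
    apply ENat.toNat_pos
    · rw [← pos_iff_ne_zero, Module.length_pos_iff, Submodule.Quotient.nontrivial_iff]
      exact (map_maximalIdeal_lt_top (f.stalkMap x).hom).ne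
    · let p := maximalIdeal (Y.presheaf.stalk (f x))
      let J := p.map (algebraMap (Y.presheaf.stalk (f x)) (X.presheaf.stalk x))
      haveI : IsArtinianRing (p.Fiber (X.presheaf.stalk x)) := inferInstance
      haveI : IsArtinianRing ((X.presheaf.stalk x : Type u) ⧸ J) := by
        let e₀ : p.ResidueField ≃ₐ[Y.presheaf.stalk (f x)] (Y.presheaf.stalk (f x) : Type u) ⧸ p :=
          (AlgEquiv.ofBijective (IsScalarTower.toAlgHom (Y.presheaf.stalk (f x)) _ p.ResidueField)
            p.bijective_algebraMap_quotient_residueField).symm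
        exact (((Algebra.TensorProduct.congr e₀ AlgEquiv.refl).trans
          (Algebra.TensorProduct.comm (Y.presheaf.stalk (f x)) _ (X.presheaf.stalk x))).toRingEquiv.trans
            (Algebra.TensorProduct.quotIdealMapEquivTensorQuot (X.presheaf.stalk x) p).symm.toRingEquiv).isArtinianRing
      rw [Module.length_eq_of_surjective (R := (X.presheaf.stalk x : Type u) ⧸ J) Ideal.Quotient.mk_surjective,
        Module.length_ne_top_iff]
      show IsFiniteLength ((X.presheaf.stalk x : Type u) ⧸ J) ((X.presheaf.stalk x : Type u) ⧸ J)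
      exact (isArtinianRing_iff_isFiniteLength _).1 inferInstance
  · algebraize [(f.residueFieldMap x).hom]
    haveI : Module.Finite (Y.residueField (f x)) (X.residueField x) := WeightLib.finite_residueFieldMap f x
    exact Nat.pos_of_ne_zero (NeZero.ne (Field.finInsepDegree (Y.residueField (f x)) (X.residueField x)))

theorem wt_mul_sepDeg (x : X) [LocallyQuasiFinite f] :
    wt f x * (letI := (f.residueFieldMap x).hom.toAlgebra
      (Field.finSepDegree (Y.residueField (f x)) (X.residueField x) : ℤ)) =
      ((lenq (f.stalkMap x).hom * resDeg (f.stalkMap x).hom : ℕ) : ℤ) := by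
  letI := (f.residueFieldMap x).hom.toAlgebra
  rw [wt, mul_assoc, Nat.cast_mul]
  congr 1
  rw [← Nat.cast_mul, Nat.cast_inj, mul_comm]
  exact Field.finSepDegree_mul_finInsepDegree (Y.residueField (f x)) (X.residueField x)

theorem fibreIntegral_spec {A B : CommRingCat.{u}} (φ : A ⟶ B) [IsFinite (Spec.map φ)] [Flat (Spec.map φ)]
    (v : ↥(Spec A)) :
    MoreMor.fibreIntegral (Spec.map φ) (wt (Spec.map φ)) v = ((Spec.map φ).finrank v : ℤ) := by
  have hf : φ.hom.Finite := (IsFinite.SpecMap_iff φ).1 inferInstance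
  have hfl : φ.hom.Flat := Flat.SpecMap_iff.1 inferInstance
  algebraize [φ.hom]
  classical
  let p := v.asIdeal
  haveI := (Algebra.QuasiFinite.finite_primesOver p : (p.primesOver B).Finite).to_subtype
  haveI : Fintype (p.primesOver B) := Fintype.ofFinite _
  rw [Scheme.Hom.finrank_SpecMap_eq_finrank hf hfl, ← RingHom.algebraMap_toAlgebra φ.hom,
    RingHom.finrank_algebraMap, Module.rankAtStalk_eq,
    ← Ideal.sum_ramification_inertia_eq_finrank_fiber, Nat.cast_sum]
  let e : p.primesOver B ≃ {u : ↥(Spec B) // Spec.map φ u = v} :=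
    { toFun := fun q => ⟨⟨q.1, q.2.1⟩, PrimeSpectrum.ext q.2.2.over.symm⟩
      invFun := fun u => ⟨u.1.asIdeal, u.1.isPrime, ⟨(congrArg PrimeSpectrum.asIdeal u.2).symm⟩⟩
      left_inv := fun _ => rfl
      right_inv := fun _ => rfl }
  rw [MoreMor.fibreIntegral, ← finsum_comp_equiv e, finsum_eq_sum_of_fintype]
  refine Finset.sum_congr rfl fun q _ => ?_
  rw [wt_mul_sepDeg, Nat.cast_inj]
  haveI := q.2.1
  haveI := q.2.2
  let r : Ideal B := q.1
  let p' : Ideal A := r.comap φ.hom
  haveI : r.LiesOver p' := ⟨rfl⟩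
  let iso := Scheme.arrowStalkMapSpecIso φ (⟨r, q.2.1⟩ : PrimeSpectrum B)
  let e₀ : (Spec A).presheaf.stalk (Spec.map φ (e q).1) ≃+* Localization.AtPrime p' :=
    (Arrow.leftFunc.mapIso iso).commRingCatIsoToRingEquiv
  let e₁ : (Spec B).presheaf.stalk (e q).1 ≃+* Localization.AtPrime r :=
    (Arrow.rightFunc.mapIso iso).commRingCatIsoToRingEquiv
  have hsq : (e₁ : _ →+* _).comp ((Spec.map φ).stalkMap (e q).1).hom =
      (Localization.localRingHom p' r φ.hom rfl).comp (e₀ : _ →+* _) := by
    exact (congrArg CommRingCat.Hom.hom iso.hom.w).symm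
  haveI : IsLocalHom (Localization.localRingHom p' r φ.hom rfl) :=
    Localization.isLocalHom_localRingHom p' r φ.hom rfl
  rw [← lenq_congr _ _ e₀ e₁ hsq, ← resDeg_congr _ _ e₀ e₁ hsq]
  letI := Localization.AtPrime.algebraOfLiesOver p' r
  rw [Ideal.ramificationIdx_eq p' r, Ideal.inertiaDeg_eq p' r]
  congr 1
  · rw [lenq, ← Localization.AtPrime.map_eq_maximalIdeal, Ideal.map_map]
    have hc : (Localization.localRingHom p' r φ.hom rfl).comp (algebraMap A (Localization.AtPrime p')) =
        algebraMap A (Localization.AtPrime r) := by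
      ext a
      rw [RingHom.comp_apply, Localization.localRingHom_to_map, IsScalarTower.algebraMap_apply A B (Localization.AtPrime r)]
      rfl
    rw [hc]
  · rw [resDeg]
    congr 1
    ext x y
    obtain ⟨a, rfl⟩ := IsLocalRing.residue_surjective x
    obtain ⟨b, rfl⟩ := IsLocalRing.residue_surjective y
    rfl

theorem finrank_eq_fibreIntegral [IsFinite f] [Flat f] (v : Y) :
    MoreMor.fibreIntegral f (wt f) v = (f.finrank v : ℤ) := by
  obtain ⟨R, g, _, y, rfl⟩ := Y.exists_Spec_apply_eq v
  let π := pullback.snd f g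
  haveI : IsFinite π := MorphismProperty.pullback_snd _ _ ‹_›
  haveI : Flat π := MorphismProperty.pullback_snd _ _ ‹_›
  haveI : IsAffine (pullback f g) := isAffine_of_isAffineHom π
  obtain ⟨φ, hφ⟩ := Spec.map_surjective ((pullback f g).isoSpec.inv ≫ π)
  haveI : IsFinite (Spec.map φ) := by rw [hφ]; infer_instance
  haveI : Flat (Spec.map φ) := by rw [hφ]; infer_instance
  have hc : IsPullback ((pullback f g).isoSpec.inv ≫ pullback.fst f g) (Spec.map φ) f g :=
    IsPullback.of_iso (IsPullback.of_hasPullback f g) (pullback f g).isoSpec (Iso.refl _) (Iso.refl _) (Iso.refl _)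
      (by simp) (by simp [hφ, π]) (by simp) (by simp)
  rw [← Scheme.Hom.finrank_of_isPullback _ _ _ _ hc, ← fibreIntegral_spec,
    ← WeightLib.fibreIntegral_baseChange hc (wt f) y (f.finite_preimage_singleton _)]
  congr 1
  funext p
  exact (wt_of_isPullback f hc p).symm

theorem wt_restrict {P : Scheme.{u}} (U : P.Opens) {V : Scheme.{u}} (π : P ⟶ V) [LocallyQuasiFinite π]
    (u : U.toScheme) : wt π (U.ι u) = wt (U.ι ≫ π) u := by
  rw [wt, wt, insDeg_comp' U.ι π u, insDeg_etale U.ι u, mul_one]
  congr 2
  refine (lenq_eq_of_square (π.stalkMap (U.ι u)).hom ((U.ι ≫ π).stalkMap u).hom (RingHom.id _)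
    (U.ι.stalkMap u).hom ?_ (Ideal.map_id _) (map_maximalIdeal_of_etale U.ι u) (Flat.stalkMap U.ι u)).symm
  rw [RingHom.comp_id, ← CommRingCat.hom_comp]
  congr 1
  exact (Scheme.Hom.stalkMap_comp U.ι π u).symm

/-- The multiplicity is a weighting. -/
theorem isWeighting_wt [LocallyQuasiFinite f] [Flat f] [LocallyOfFinitePresentation f] :
    MoreMor.IsWeighting f (wt f) := by
  intro V g _ U hU
  haveI : Flat (pullback.snd f g) := MorphismProperty.pullback_snd _ _ ‹_›
  haveI : LocallyOfFinitePresentation (pullback.snd f g) := MorphismProperty.pullback_snd _ _ ‹_›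
  haveI : LocallyQuasiFinite (pullback.snd f g) := MorphismProperty.pullback_snd _ _ ‹_›
  haveI : IsFinite (U.ι ≫ pullback.snd f g) := hU
  have hw : (fun u => wt f (pullback.fst f g (U.ι u))) = wt (U.ι ≫ pullback.snd f g) := by
    funext u
    rw [← wt_of_isPullback f (IsPullback.of_hasPullback f g)]
    exact wt_restrict U (pullback.snd f g) u
  rw [hw]
  rw [show MoreMor.fibreIntegral (U.ι ≫ pullback.snd f g) (wt (U.ι ≫ pullback.snd f g)) =
    fun v => (((U.ι ≫ pullback.snd f g).finrank v : ℕ) : ℤ) from funext (finrank_eq_fibreIntegral _)]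
  exact (U.ι ≫ pullback.snd f g).isLocallyConstant_finrank.comp (fun n : ℕ => (n : ℤ))

end FibDegLib
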